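import Cfsg.Agent.H16.EP.Small
import Cfsg.Agent.H16.EP.JTwo
import Cfsg.Agent.H831.EPV.M23
import Cfsg.Agent.H568.EP.JThree
import Cfsg.Agent.H581.EP.HS
import Cfsg.Agent.H331.EPV.McLFin
import Cfsg.Agent.H805.EPT.He
import Cfsg.Agent.H489.EP.ON
import Cfsg.Agent.H433.EP.LsFi
import Cfsg.Agent.H502.EP.HNRow
import Cfsg.Agent.H812.EP.Ly
import Cfsg.Agent.H388.EP.JFour
import Cfsg.Agent.H840.EP.Th
import Cfsg.Agent.H444.EP.Mon

/-!
# S3499-ASM-SPOR: the sporadic socles (helper688)

`bigOf_sporadic_of` : the row of the sporadic socles in dimension at least 13 from the missing rows.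
-/

set_option autoImplicit false

namespace Cfsg.Agent.H688.EP

open Cfsg Cfsg.Agent.H419.EP Cfsg.Agent.H59.EP
open scoped MatrixGroups

/-- **Row `J₂`** with the proved bound -/
theorem j2 (hg : TwoGen.{0}) : BigOf (fun L _ => Spor.IsoJ2 L) := by
  intro Q _ _ A Γ ι _ _ F _ _ S P b h
  obtain ⟨e⟩ := h
  obtain ⟨i, hi1, hi2, hi⟩ := H16.EP.card_A b e S1619.result.2.2.2 (by norm_num) S2066.result
  have hA : Nat.card A ∣ 1209600 := by
    rcases (show i = 1 ∨ i = 2 by omega) with h0 | h0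
    · rw [hi, h0]; norm_num
    · rw [hi, h0]
  have hQ := H812.EP.card_le hg b [(2, 8), (3, 3), (5, 2), (7, 1)] (by decide +kernel) (by decide +kernel)
    (N := 1209600) (by decide +kernel) hA (by norm_num)
  exact absurd ((H16.EP.ord_ge b).trans hQ) (not_le.2 (by decide +kernel))

/-- the rows which are not landed yet -/
structure Missing : Prop where
  m24 : BigOf (fun L _ => Spor.IsoM24 L)
  co1 : BigOf (fun L _ => Spor.IsoCo1 L)
  co2 : BigOf (fun L _ => Spor.IsoCo2 L)
  co3 : BigOf (fun L _ => Spor.IsoCo3 L)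
  suz : BigOf (fun L _ => Spor.IsoSuz L)
  ru : BigOf (fun L _ => Spor.IsoRu L)
  fi24 : BigOf (fun L _ => Spor.IsoFi24' L)
  b : BigOf (fun L _ => Spor.IsoB L)

/-- **The sporadic socles.** -/
theorem bigOf_sporadic_of (hg : TwoGen.{0}) (w : Missing) : BigOf (fun L _ => IsSporadicGroup L) := by
  intro Q _ _ A Γ ι _ _ F _ _ S P b h
  rcases h with h | h | h | h | h | h | h | h | h | h | h | h | h | h | h | h | h | h | h | h | h | h | h | h | h | h
  · exact H16.EP.m11 hg b h
  · exact H16.EP.m12 hg b h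
  · exact H16.EP.m22 hg b h
  · exact H831.EPV.m23 hg b h
  · exact w.m24 b h
  · exact H16.EP.j1 hg b h
  · exact j2 hg b h
  · exact H568.EP.j3 hg b h
  · exact H388.EP.row_J4 b h
  · exact w.co1 b h
  · exact w.co2 b h
  · exact w.co3 b h
  · exact H331.EPV.mcl hg b h
  · exact H581.EP.hs hg b h
  · exact w.suz b h
  · exact H805.EPT.he hg b h
  · exact w.ru b h
  · exact H489.EP.ON.on hg b h
  · exact H812.EP.ly hg b h
  · exact H433.EP.row22 hg b h
  · exact H433.EP.row23 hg b h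
  · exact w.fi24 b h
  · exact H502.EP.HN.hn hg b h
  · exact H840.EP.Th.row hg b h
  · exact w.b b h
  · exact H444.EP.Mon.row_M hg b h

end Cfsg.Agent.H688.EP
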