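import Cfsg.Agent.H688.EP.SporAsm2
import Cfsg.Agent.H840.EP.CoOne

/-!
# S3499-ASM-SPOR: the sporadic socles (helper688)

`bigOf_sporadic_of_known` : the row of the sporadic socles in dimension at least 13 from the inputs which use S0000.
-/

set_option autoImplicit false

namespace Cfsg.Agent.H688.EP

open Cfsg Cfsg.Agent.H419.EP Cfsg.Agent.H59.EP
open scoped MatrixGroups

/-- **The sporadic socles.** -/
theorem bigOf_sporadic_of_known (hg : TwoGen.{0}) (hI : H775.EPS.InvGen.{0} 448345497600 250000)
    (hev : ∀ (X : Type) [Group X] [Finite X], IsSimpleGroup X → ¬ Group.IsSolvable X → 2 ∣ Nat.card X)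
    (hK : H995.CopEngine.AllKnown.{0}) : BigOf (fun L _ => IsSporadicGroup L) :=
  bigOf_sporadic_of_co1 hg hI hev hK (H840.EP.CoOne.target hg)

end Cfsg.Agent.H688.EP
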