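import Cfsg.Agent.H688.EP.SporAsm
import Cfsg.Agent.H118.EPS.M24
import Cfsg.Agent.H762.EPV.Ru
import Cfsg.Agent.H840.EP.CoTwo
import Cfsg.Agent.H517.EP.RowCo3
import Cfsg.Agent.H405.EPS.Suz
import Cfsg.Agent.H181.EP.Fi24
import Cfsg.Agent.H948.EP.RowB

/-!
# S3499-ASM-SPOR: the sporadic socles (helper688)

`bigOf_sporadic_of_co1` : the row of the sporadic socles in dimension at least 13, from `Co₁` and the inputs which use S0000.
-/

set_option autoImplicit false

namespace Cfsg.Agent.H688.EP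

open Cfsg Cfsg.Agent.H419.EP Cfsg.Agent.H59.EP
open scoped MatrixGroups

theorem missing_of (hg : TwoGen.{0}) (hI : H775.EPS.InvGen.{0} 448345497600 250000)
    (hev : ∀ (X : Type) [Group X] [Finite X], IsSimpleGroup X → ¬ Group.IsSolvable X → 2 ∣ Nat.card X)
    (hK : H995.CopEngine.AllKnown.{0}) (co1 : BigOf (fun L _ => Spor.IsoCo1 L)) : Missing where
  m24 := H118.EPS.m24 hg
  co1 := co1
  co2 := H840.EP.CoTwo.target hg
  co3 := H517.EP.co3 hg
  suz := H405.EPS.suz hI hg hev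
  ru := H762.EPV.ru hg
  fi24 := fun b h => H181.EP.fi24 hg b h
  b := H948.EP.row_B hg hK

/-- **The sporadic socles**, `Co₁` missing. -/
theorem bigOf_sporadic_of_co1 (hg : TwoGen.{0}) (hI : H775.EPS.InvGen.{0} 448345497600 250000)
    (hev : ∀ (X : Type) [Group X] [Finite X], IsSimpleGroup X → ¬ Group.IsSolvable X → 2 ∣ Nat.card X)
    (hK : H995.CopEngine.AllKnown.{0}) (co1 : BigOf (fun L _ => Spor.IsoCo1 L)) : BigOf (fun L _ => IsSporadicGroup L) :=
  bigOf_sporadic_of hg (missing_of hg hI hev hK co1)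

end Cfsg.Agent.H688.EP
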