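import Cfsg.Agent.H688.EP.SporAsm3
import Cfsg.Agent.H775.EPS.SuzFin

/-!
# S3499-ASM-SPOR: the sporadic socles, without hypotheses (helper688)
-/

set_option autoImplicit false

namespace Cfsg.Agent.H688.EP

open Cfsg Cfsg.Agent.H419.EP Cfsg.Agent.H59.EP

/-- **The sporadic socles** in dimension at least 13. -/
theorem bigOf_sporadic : BigOf (fun L _ => IsSporadicGroup L) :=
  bigOf_sporadic_of_known H775.EPS.twoGen_all H775.EPS.invGen_all H775.EPS.even_of_simple
    (fun _ _ _ _ => S0000.result)

end Cfsg.Agent.H688.EP
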